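import Groth.Agent.H83.Matroid.Weighted

/-! Stable configurations of points in projective space and monomials in the determinant
sections (helper83). -/

set_option autoImplicit false

open Module

namespace Groth.Agent.H83.Matroid

section Count

variable {ι : Type*} [DecidableEq ι]

/-- Double counting incidences between a multiset of finite sets and a finite set. -/
theorem sum_card_inter (P : Multiset (Finset ι)) (A : Finset ι) :
    (P.map fun S => (S ∩ A).card).sum =
      ∑ j ∈ A, Multiset.card (P.filter fun S => j ∈ S) := by
  induction P using Multiset.induction_on with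
  | empty => simp
  | cons S P ih =>
    rw [Multiset.map_cons, Multiset.sum_cons, ih]
    have h1 : ∀ j, Multiset.card ((S ::ₘ P).filter fun S => j ∈ S) =
        (if j ∈ S then 1 else 0) + Multiset.card (P.filter fun S => j ∈ S) := by
      intro j
      rw [Multiset.filter_cons, Multiset.card_add]
      split_ifs <;> simp
    rw [Finset.sum_congr rfl fun j _ => h1 j, Finset.sum_add_distrib, ← Finset.card_filter,
      Finset.filter_mem_eq_inter, Finset.inter_comm]

end Count

variable {K V : Type*} [Field K] [AddCommGroup V] [Module K V] [FiniteDimensional K V]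

/-- Linearly independent vectors in a subspace are at most its dimension in number. -/
theorem card_inter_le_finrank {ι : Type*} [DecidableEq ι] (x : ι → V) (L : Submodule K V)
    (S A : Finset ι) (hA : ∀ j ∈ A, x j ∈ L) (hS : LinearIndependent K (fun j : S => x j)) :
    (S ∩ A).card ≤ finrank K L := by
  have h1 : LinearIndependent K (fun j : (S ∩ A : Finset ι) => x j) :=
    hS.comp (fun j : (S ∩ A : Finset ι) => (⟨j.1, (Finset.mem_inter.mp j.2).1⟩ : S))
      (fun a b hab => Subtype.ext (congrArg (fun z : S => (z : ι)) hab))
  let f : (S ∩ A : Finset ι) → L := fun j => ⟨x j, hA j.1 (Finset.mem_inter.mp j.2).2⟩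
  have h2 : LinearIndependent K f := LinearIndependent.of_comp L.subtype h1
  have h3 := h2.fintype_card_le_finrank
  rwa [Fintype.card_coe] at h3

variable {m : ℕ}

/-- A stable configuration has monomials in the determinant sections of the required
multidegrees. -/
theorem exists_monomials_of_stable (x : Fin (m + 1) → V) (hx : ∀ i, x i ≠ 0)
    (hst : ∀ L : Submodule K V, L ≠ ⊥ → L ≠ ⊤ →
      Set.ncard {i : Fin (m + 1) | x i ∈ L} * finrank K V < finrank K L * (m + 1)) :
    ∃ N N₀ : ℕ, 0 < N₀ ∧ N₀ ≤ N ∧
      ∀ i : Fin (m + 1), ∃ P : Multiset (Finset (Fin (m + 1))), P ≠ 0 ∧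
        (∀ S ∈ P, S.card = finrank K V ∧ LinearIndependent K (fun j : S => x j)) ∧
        ∀ j : Fin (m + 1),
          Multiset.card (P.filter (fun S => j ∈ S)) = if j = i then N - N₀ else N := by
  classical
  set r := finrank K V with hr
  have hrpos : 0 < r := Module.finrank_pos_iff_exists_ne_zero.mpr ⟨x 0, hx 0⟩
  refine ⟨r * (r + 1), r, hrpos, by nlinarith, fun i => ?_⟩
  set M := m * (r + 1) + r with hM
  let w : Fin (m + 1) → ℕ := fun j => if j = i then r * (r + 1) - r else r * (r + 1)
  have hwi : w i = r * r := by
    simp only [w, if_true]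
    have : r * (r + 1) = r * r + r := by ring
    omega
  have hwj : ∀ j ∈ (Finset.univ : Finset (Fin (m + 1))).erase i, w j = r * (r + 1) := by
    intro j hj
    simp only [w, if_neg (Finset.mem_erase.mp hj).1]
  have hwle : ∀ j, w j ≤ r * (r + 1) := by
    intro j
    simp only [w]
    split_ifs
    · exact Nat.sub_le _ _
    · exact le_rfl
  have hsum : ∑ j, w j = M * r := by
    rw [← Finset.add_sum_erase _ _ (Finset.mem_univ i), Finset.sum_congr rfl hwj, hwi,
      Finset.sum_const, Finset.card_erase_of_mem (Finset.mem_univ i), Finset.card_univ,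
      Fintype.card_fin, smul_eq_mul, hM]
    simp only [Nat.add_sub_cancel]
    ring
  have hA : ∀ A : Finset (Fin (m + 1)), ∑ j ∈ A, w j ≤ M * rk K x A := by
    intro A
    set L := Submodule.span K (x '' (A : Set (Fin (m + 1)))) with hL
    have hl : rk K x A = finrank K L := rfl
    have hAL : ∀ j ∈ A, x j ∈ L := fun j hj =>
      Submodule.subset_span ⟨j, Finset.mem_coe.mpr hj, rfl⟩
    by_cases hL0 : L = ⊥
    · have hAe : A = ∅ := by
        apply Finset.eq_empty_of_forall_notMem
        intro j hj
        have := hAL j hj
        rw [hL0, Submodule.mem_bot] at this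
        exact hx j this
      rw [hAe, Finset.sum_empty]
      exact Nat.zero_le _
    by_cases hL1 : L = ⊤
    · rw [hl, hL1, finrank_top, ← hr, ← hsum]
      exact Finset.sum_le_sum_of_subset (Finset.subset_univ A)
    · have h1 := hst L hL0 hL1
      have h2 : A.card ≤ Set.ncard {i : Fin (m + 1) | x i ∈ L} := by
        rw [← Set.ncard_coe_finset A]
        apply Set.ncard_le_ncard _ (Set.toFinite _)
        intro j hj
        exact hAL j (Finset.mem_coe.mp hj)
      have h3 : rk K x A ≤ r := rk_le_finrank x A
      have h4 : ∑ j ∈ A, w j ≤ A.card * (r * (r + 1)) := by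
        have := Finset.sum_le_card_nsmul A w (r * (r + 1)) (fun j _ => hwle j)
        rwa [smul_eq_mul] at this
      refine h4.trans ?_
      rw [hl] at h3 ⊢
      set l := finrank K L
      have h5 : A.card * r + 1 ≤ l * (m + 1) :=
        Nat.succ_le_of_lt (lt_of_le_of_lt (Nat.mul_le_mul_right r h2) h1)
      have h6 := Nat.mul_le_mul_right (r + 1) h5
      rw [hM]
      nlinarith [h6, h3]
  obtain ⟨S, hS, hcount⟩ := exists_bases_with_multiplicities (K := K) x w M hsum hA
  refine ⟨(Finset.univ : Finset (Fin M)).val.map S, ?_, ?_, ?_⟩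
  · intro h0
    have := congrArg Multiset.card h0
    rw [Multiset.card_map, Multiset.card_zero] at this
    change (Finset.univ : Finset (Fin M)).card = 0 at this
    rw [Finset.card_univ, Fintype.card_fin] at this
    omega
  · intro S' hS'
    rw [Multiset.mem_map] at hS'
    obtain ⟨t, -, rfl⟩ := hS'
    exact hS t
  · intro j
    rw [Multiset.filter_map, Multiset.card_map]
    have : Multiset.filter ((fun S => j ∈ S) ∘ S) (Finset.univ : Finset (Fin M)).val =
        (Finset.univ.filter fun t => j ∈ S t).val := rfl
    rw [this]
    exact hcount j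

/-- A configuration with monomials in the determinant sections of the required multidegrees
is stable. -/
theorem stable_of_monomials (x : Fin (m + 1) → V) (N N₀ : ℕ) (h0 : 0 < N₀) (hle : N₀ ≤ N)
    (hP : ∀ i : Fin (m + 1), ∃ P : Multiset (Finset (Fin (m + 1))), P ≠ 0 ∧
      (∀ S ∈ P, S.card = finrank K V ∧ LinearIndependent K (fun j : S => x j)) ∧
      ∀ j : Fin (m + 1),
        Multiset.card (P.filter (fun S => j ∈ S)) = if j = i then N - N₀ else N)
    (L : Submodule K V) (hL0 : L ≠ ⊥) (hL1 : L ≠ ⊤) :
    Set.ncard {i : Fin (m + 1) | x i ∈ L} * finrank K V < finrank K L * (m + 1) := by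
  classical
  set A : Finset (Fin (m + 1)) := Finset.univ.filter fun j => x j ∈ L with hA
  have hncard : Set.ncard {i : Fin (m + 1) | x i ∈ L} = A.card := by
    rw [← Set.ncard_coe_finset A]
    congr 1
    ext j
    simp [hA]
  have hAL : ∀ j ∈ A, x j ∈ L := fun j hj => (Finset.mem_filter.mp hj).2
  rw [hncard]
  set r := finrank K V with hr
  set l := finrank K L with hl
  have hlpos : 1 ≤ l := Submodule.one_le_finrank_iff.mpr hL0
  have hlr : l < r := Submodule.finrank_lt hL1
  by_cases hall : ∀ i, x i ∈ L
  · exfalso
    obtain ⟨P, hP0, hPS, -⟩ := hP 0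
    obtain ⟨S, hS⟩ := Multiset.exists_mem_of_ne_zero hP0
    have h1 := card_inter_le_finrank x L S A hAL (hPS S hS).2
    have h2 : S ∩ A = S := by
      apply Finset.inter_eq_left.mpr
      intro j _
      rw [hA, Finset.mem_filter]
      exact ⟨Finset.mem_univ j, hall j⟩
    rw [h2, (hPS S hS).1] at h1
    omega
  · push Not at hall
    obtain ⟨i, hi⟩ := hall
    obtain ⟨P, -, hPS, hcount⟩ := hP i
    have hiA : i ∉ A := fun h => hi (hAL i h)
    -- incidences with `A`
    have e1 : (P.map fun S => (S ∩ A).card).sum = A.card * N := by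
      have hc : ∀ j ∈ A, Multiset.card (P.filter fun S => j ∈ S) = N := by
        intro j hj
        have hji : j ≠ i := by
          rintro rfl
          exact hiA hj
        rw [hcount j, if_neg hji]
      rw [sum_card_inter, Finset.sum_congr rfl hc, Finset.sum_const, smul_eq_mul]
    -- all incidences
    have e2 : (P.map fun S => (S ∩ Finset.univ).card).sum = (N - N₀) + m * N := by
      have hc : ∀ j ∈ (Finset.univ : Finset (Fin (m + 1))).erase i,
          Multiset.card (P.filter fun S => j ∈ S) = N := by
        intro j hj
        rw [hcount j, if_neg (Finset.mem_erase.mp hj).1]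
      rw [sum_card_inter, ← Finset.add_sum_erase _ _ (Finset.mem_univ i), hcount i, if_pos rfl,
        Finset.sum_congr rfl hc, Finset.sum_const,
        Finset.card_erase_of_mem (Finset.mem_univ i), Finset.card_univ, Fintype.card_fin,
        smul_eq_mul]
      simp
    have e3 : (P.map fun S => (S ∩ Finset.univ).card).sum = Multiset.card P * r := by
      have : P.map (fun S => (S ∩ Finset.univ).card) = P.map fun _ => r := by
        apply Multiset.map_congr rfl
        intro S hS
        rw [Finset.inter_univ]
        exact (hPS S hS).1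
      rw [this, Multiset.map_const', Multiset.sum_replicate, smul_eq_mul]
    have e4 : (P.map fun S => (S ∩ A).card).sum ≤ Multiset.card P * l := by
      have : (P.map fun S => (S ∩ A).card).sum ≤ (P.map fun _ => l).sum := by
        apply Multiset.sum_map_le_sum_map
        intro S hS
        exact card_inter_le_finrank x L S A hAL (hPS S hS).2
      rwa [Multiset.map_const', Multiset.sum_replicate, smul_eq_mul] at this
    rw [e1] at e4
    rw [e2] at e3
    obtain ⟨D, hD⟩ : ∃ D, N = D + N₀ := ⟨N - N₀, by omega⟩
    have hD' : N - N₀ = D := by omega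
    rw [hD'] at e3
    have hNpos : 0 < N := by omega
    apply Nat.lt_of_mul_lt_mul_left (a := N)
    have h1 : N * (A.card * r) ≤ Multiset.card P * l * r := by
      calc N * (A.card * r) = (A.card * N) * r := by ring
        _ ≤ (Multiset.card P * l) * r := Nat.mul_le_mul_right r e4
    have h2 : Multiset.card P * l * r = l * (D + m * N) := by
      rw [e3]
      ring
    have h3 : l * (D + m * N) + 1 ≤ N * (l * (m + 1)) := by
      have : 1 ≤ l * N₀ := Nat.mul_pos hlpos h0
      calc l * (D + m * N) + 1 ≤ l * (D + m * N) + l * N₀ := Nat.add_le_add_left this _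
        _ = N * (l * (m + 1)) := by
          rw [hD]
          ring
    omega

end Groth.Agent.H83.Matroid
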