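import Mathlib

/-! Edmonds' intersection theorem for two rank functions on the finite subsets of a type, in the
form: if `k ≤ r₁ A + r₂ (G \ A)` for every `A ⊆ G`, there is a common independent subset of `G`
with `k` elements.  Proof by deletion and contraction of an element (helper83). -/

set_option autoImplicit false

namespace Groth.Agent.H83.Matroid

variable {α : Type*} [DecidableEq α]

/-- Rank functions of matroids, on the finite subsets of a type. -/
structure IsRk (r : Finset α → ℕ) : Prop where
  mono : ∀ ⦃A B : Finset α⦄, A ⊆ B → r A ≤ r B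
  le_card : ∀ A : Finset α, r A ≤ A.card
  submod : ∀ A B : Finset α, r (A ∩ B) + r (A ∪ B) ≤ r A + r B

namespace IsRk

variable {r : Finset α → ℕ}

theorem empty (hr : IsRk r) : r ∅ = 0 := by
  have := hr.le_card ∅
  simpa using this

theorem eq_zero_of_singletons (hr : IsRk r) (A : Finset α) (h : ∀ e ∈ A, r {e} = 0) : r A = 0 := by
  induction A using Finset.induction_on with
  | empty => exact hr.empty
  | insert e A he ih =>
    have h1 := hr.submod {e} A
    have h2 : r {e} = 0 := h e (Finset.mem_insert_self e A)
    have h3 : r A = 0 := ih fun x hx => h x (Finset.mem_insert_of_mem hx)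
    have h4 : ({e} : Finset α) ∪ A = insert e A := rfl
    rw [h4, h2, h3] at h1
    omega

/-- The contraction of an element of rank one. -/
theorem contract (hr : IsRk r) (e : α) (he : r {e} = 1) : IsRk fun A => r (insert e A) - 1 := by
  have hge : ∀ A : Finset α, 1 ≤ r (insert e A) := by
    intro A
    rw [← he]
    apply hr.mono
    intro x hx
    rw [Finset.mem_singleton] at hx
    rw [hx]
    exact Finset.mem_insert_self e A
  refine ⟨?_, ?_, ?_⟩
  · intro A B hAB
    have := hr.mono (Finset.insert_subset_insert e hAB)
    change r (insert e A) - 1 ≤ r (insert e B) - 1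
    omega
  · intro A
    have h1 := hr.le_card (insert e A)
    have h2 := Finset.card_insert_le e A
    change r (insert e A) - 1 ≤ A.card
    omega
  · intro A B
    have h1 := hr.submod (insert e A) (insert e B)
    rw [← Finset.insert_inter_distrib, ← Finset.insert_union_distrib] at h1
    have h2 := hge (A ∩ B)
    have h3 := hge (A ∪ B)
    have h4 := hge A
    have h5 := hge B
    change r (insert e (A ∩ B)) - 1 + (r (insert e (A ∪ B)) - 1) ≤
      r (insert e A) - 1 + (r (insert e B) - 1)
    omega

end IsRk

/-- Edmonds' matroid intersection theorem (the non-trivial inequality). -/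
theorem exists_common_indep (n : ℕ) : ∀ (r₁ r₂ : Finset α → ℕ), IsRk r₁ → IsRk r₂ →
    ∀ (G : Finset α), G.card = n → ∀ k : ℕ, (∀ A ⊆ G, k ≤ r₁ A + r₂ (G \ A)) →
      ∃ I ⊆ G, I.card = k ∧ r₁ I = k ∧ r₂ I = k := by
  classical
  induction n with
  | zero =>
    intro r₁ r₂ h₁ h₂ G hG k hk
    have hG0 : G = ∅ := Finset.card_eq_zero.mp hG
    have h0 := hk ∅ (Finset.empty_subset G)
    rw [hG0, Finset.sdiff_empty, h₁.empty, h₂.empty] at h0
    have hk0 : k = 0 := by omega
    refine ⟨∅, Finset.empty_subset G, ?_, ?_, ?_⟩
    · rw [hk0]; rfl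
    · rw [hk0]; exact h₁.empty
    · rw [hk0]; exact h₂.empty
  | succ n ih =>
    intro r₁ r₂ h₁ h₂ G hG k hk
    rcases Nat.eq_zero_or_pos k with hk0 | hkpos
    · refine ⟨∅, Finset.empty_subset G, ?_, ?_, ?_⟩
      · rw [hk0]; rfl
      · rw [hk0]; exact h₁.empty
      · rw [hk0]; exact h₂.empty
    obtain ⟨k', rfl⟩ : ∃ k', k = k' + 1 := ⟨k - 1, by omega⟩
    have hsing : ∀ (r : Finset α → ℕ), IsRk r → ∀ e : α, r {e} = 0 ∨ r {e} = 1 := by
      intro r hr e
      have := hr.le_card {e}
      rw [Finset.card_singleton] at this
      omega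
    by_cases hex : ∃ e ∈ G, r₁ {e} = 1 ∧ r₂ {e} = 1
    · obtain ⟨e, heG, he1, he2⟩ := hex
      set G' := G.erase e with hG'
      have hG'card : G'.card = n := by
        rw [hG', Finset.card_erase_of_mem heG, hG]
        rfl
      have hG'G : G' ⊆ G := Finset.erase_subset e G
      have heG' : e ∉ G' := Finset.notMem_erase e G
      by_cases hdel : ∀ A ⊆ G', k' + 1 ≤ r₁ A + r₂ (G' \ A)
      · obtain ⟨I, hI, h⟩ := ih r₁ r₂ h₁ h₂ G' hG'card (k' + 1) hdel
        exact ⟨I, hI.trans hG'G, h⟩
      by_cases hcon : ∀ A ⊆ G', k' ≤ (r₁ (insert e A) - 1) + (r₂ (insert e (G' \ A)) - 1)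
      · obtain ⟨I, hI, hIc, hI1, hI2⟩ := ih _ _ (h₁.contract e he1) (h₂.contract e he2) G' hG'card
          k' hcon
        have heI : e ∉ I := fun h => heG' (hI h)
        have hge1 : 1 ≤ r₁ (insert e I) := by
          rw [← he1]
          apply h₁.mono
          intro x hx
          rw [Finset.mem_singleton] at hx
          rw [hx]
          exact Finset.mem_insert_self e I
        have hge2 : 1 ≤ r₂ (insert e I) := by
          rw [← he2]
          apply h₂.mono
          intro x hx
          rw [Finset.mem_singleton] at hx
          rw [hx]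
          exact Finset.mem_insert_self e I
        refine ⟨insert e I, ?_, ?_, ?_, ?_⟩
        · exact Finset.insert_subset heG (hI.trans hG'G)
        · rw [Finset.card_insert_of_notMem heI, hIc]
        · change r₁ (insert e I) - 1 = k' at hI1
          omega
        · change r₂ (insert e I) - 1 = k' at hI2
          omega
      exfalso
      push Not at hdel hcon
      obtain ⟨A, hA, hA'⟩ := hdel
      obtain ⟨B, hB, hB'⟩ := hcon
      have heA : e ∉ A := fun h => heG' (hA h)
      have heB : e ∉ B := fun h => heG' (hB h)
      have hgeB : 1 ≤ r₁ (insert e B) := by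
        rw [← he1]
        apply h₁.mono
        intro x hx
        rw [Finset.mem_singleton] at hx
        rw [hx]
        exact Finset.mem_insert_self e B
      have hgeB2 : 1 ≤ r₂ (insert e (G' \ B)) := by
        rw [← he2]
        apply h₂.mono
        intro x hx
        rw [Finset.mem_singleton] at hx
        rw [hx]
        exact Finset.mem_insert_self e _
      have hs1 := h₁.submod A (insert e B)
      have hs2 := h₂.submod (G' \ A) (insert e (G' \ B))
      have hsub1 : A ∩ insert e B ⊆ G := (Finset.inter_subset_left.trans hA).trans hG'G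
      have hsub2 : A ∪ insert e B ⊆ G :=
        Finset.union_subset (hA.trans hG'G) (Finset.insert_subset heG (hB.trans hG'G))
      have hk1 := hk _ hsub1
      have hk2 := hk _ hsub2
      have hm1 : r₂ (G \ (A ∩ insert e B)) ≤ r₂ ((G' \ A) ∪ insert e (G' \ B)) := by
        apply h₂.mono
        intro x hx
        rw [Finset.mem_sdiff, Finset.mem_inter, Finset.mem_insert] at hx
        rw [Finset.mem_union, Finset.mem_insert, Finset.mem_sdiff, Finset.mem_sdiff, hG',
          Finset.mem_erase]
        by_cases hxe : x = e
        · right; left; exact hxe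
        · by_cases hxA : x ∈ A
          · right; right
            refine ⟨⟨hxe, hx.1⟩, fun hxB => hx.2 ⟨hxA, Or.inr hxB⟩⟩
          · left
            exact ⟨⟨hxe, hx.1⟩, hxA⟩
      have hm2 : r₂ (G \ (A ∪ insert e B)) ≤ r₂ ((G' \ A) ∩ insert e (G' \ B)) := by
        apply h₂.mono
        intro x hx
        rw [Finset.mem_sdiff, Finset.mem_union, Finset.mem_insert] at hx
        rw [Finset.mem_inter, Finset.mem_insert, Finset.mem_sdiff, Finset.mem_sdiff, hG',
          Finset.mem_erase]
        have hxe : x ≠ e := fun h => hx.2 (Or.inr (Or.inl h))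
        have hxA : x ∉ A := fun h => hx.2 (Or.inl h)
        have hxB : x ∉ B := fun h => hx.2 (Or.inr (Or.inr h))
        exact ⟨⟨⟨hxe, hx.1⟩, hxA⟩, Or.inr ⟨⟨hxe, hx.1⟩, hxB⟩⟩
      omega
    · -- every element is a loop of one of the two
      exfalso
      push Not at hex
      set A := G.filter (fun e => r₁ {e} = 0) with hA
      have h1 : r₁ A = 0 := by
        apply h₁.eq_zero_of_singletons
        intro e he
        rw [hA, Finset.mem_filter] at he
        exact he.2
      have h2 : r₂ (G \ A) = 0 := by
        apply h₂.eq_zero_of_singletons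
        intro e he
        rw [Finset.mem_sdiff, hA, Finset.mem_filter] at he
        have he1 : r₁ {e} = 1 := by
          rcases hsing r₁ h₁ e with h | h
          · exact absurd ⟨he.1, h⟩ he.2
          · exact h
        rcases hsing r₂ h₂ e with h | h
        · exact h
        · exact absurd h (hex e he.1 he1)
      have := hk A (Finset.filter_subset _ G)
      omega

end Groth.Agent.H83.Matroid
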