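import Groth.Agent.H83.Matroid.Intersection

/-! The Rado–Horn theorem: a finite family of vectors with `|T| ≤ M · dim span T` for every
subfamily `T` can be split into `M` linearly independent subfamilies (helper83). -/

set_option autoImplicit false

open Module

namespace Groth.Agent.H83.Matroid

section Rank

variable {K V E : Type*} [Field K] [AddCommGroup V] [Module K V] [FiniteDimensional K V]
  [DecidableEq E]

/-- The rank of a finite subfamily of a family of vectors. -/
noncomputable def rk (K : Type*) {V E : Type*} [Field K] [AddCommGroup V] [Module K V] (x : E → V)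
    (S : Finset E) : ℕ :=
  finrank K (Submodule.span K (x '' (S : Set E)))

theorem rk_mono (x : E → V) {A B : Finset E} (h : A ⊆ B) : rk K x A ≤ rk K x B := by
  apply Submodule.finrank_mono
  apply Submodule.span_mono
  apply Set.image_mono
  exact_mod_cast h

theorem rk_le_card (x : E → V) (A : Finset E) : rk K x A ≤ A.card := by
  classical
  have h1 : x '' (A : Set E) = ((A.image x : Finset V) : Set V) := by
    rw [Finset.coe_image]
  rw [rk, h1]
  exact (finrank_span_finset_le_card (R := K) (A.image x)).trans Finset.card_image_le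

theorem rk_le_finrank (x : E → V) (A : Finset E) : rk K x A ≤ finrank K V :=
  Submodule.finrank_le _

theorem rk_submod (x : E → V) (A B : Finset E) :
    rk K x (A ∩ B) + rk K x (A ∪ B) ≤ rk K x A + rk K x B := by
  have h1 : Submodule.span K (x '' ((A ∪ B : Finset E) : Set E)) =
      Submodule.span K (x '' (A : Set E)) ⊔ Submodule.span K (x '' (B : Set E)) := by
    rw [Finset.coe_union, Set.image_union, Submodule.span_union]
  have h2 : Submodule.span K (x '' ((A ∩ B : Finset E) : Set E)) ≤
      Submodule.span K (x '' (A : Set E)) ⊓ Submodule.span K (x '' (B : Set E)) := by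
    apply le_inf
    · apply Submodule.span_mono
      apply Set.image_mono
      rw [Finset.coe_inter]
      exact Set.inter_subset_left
    · apply Submodule.span_mono
      apply Set.image_mono
      rw [Finset.coe_inter]
      exact Set.inter_subset_right
  have h3 := Submodule.finrank_sup_add_finrank_inf_eq (Submodule.span K (x '' (A : Set E)))
    (Submodule.span K (x '' (B : Set E)))
  have h4 := Submodule.finrank_mono h2
  rw [rk, rk, rk, rk, h1]
  omega

theorem isRk_rk (x : E → V) : IsRk (rk K x) :=
  ⟨fun _ _ h => rk_mono x h, rk_le_card x, rk_submod x⟩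

theorem image_eq_range (x : E → V) (S : Finset E) :
    x '' (S : Set E) = Set.range fun e : S => x e := by
  ext v
  constructor
  · rintro ⟨e, he, rfl⟩
    exact ⟨⟨e, he⟩, rfl⟩
  · rintro ⟨⟨e, he⟩, rfl⟩
    exact ⟨e, he, rfl⟩

/-- Full rank means linear independence. -/
theorem linearIndependent_of_rk_eq_card (x : E → V) (S : Finset E) (h : rk K x S = S.card) :
    LinearIndependent K (fun e : S => x e) := by
  rw [linearIndependent_iff_card_eq_finrank_span, Fintype.card_coe, ← h, rk, image_eq_range]
  rfl

theorem rk_eq_card_of_linearIndependent (x : E → V) (S : Finset E)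
    (h : LinearIndependent K (fun e : S => x e)) : rk K x S = S.card := by
  rw [linearIndependent_iff_card_eq_finrank_span, Fintype.card_coe] at h
  rw [h, rk, image_eq_range]
  rfl

end Rank

section Partition

variable {K V E : Type*} [Field K] [AddCommGroup V] [Module K V] [FiniteDimensional K V]
  [DecidableEq E] [Fintype E]

/-- The fibre of a subset of `E × Fin M` over a colour. -/
def fib {M : ℕ} (A : Finset (E × Fin M)) (i : Fin M) : Finset E :=
  Finset.univ.filter fun e => (e, i) ∈ A

theorem mem_fib {M : ℕ} (A : Finset (E × Fin M)) (i : Fin M) (e : E) :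
    e ∈ fib A i ↔ (e, i) ∈ A := by
  rw [fib, Finset.mem_filter]
  simp

theorem fib_mono {M : ℕ} {A B : Finset (E × Fin M)} (h : A ⊆ B) (i : Fin M) :
    fib A i ⊆ fib B i := by
  intro e he
  rw [mem_fib] at he ⊢
  exact h he

theorem fib_inter {M : ℕ} (A B : Finset (E × Fin M)) (i : Fin M) :
    fib (A ∩ B) i = fib A i ∩ fib B i := by
  ext e
  simp only [mem_fib, Finset.mem_inter]

theorem fib_union {M : ℕ} (A B : Finset (E × Fin M)) (i : Fin M) :
    fib (A ∪ B) i = fib A i ∪ fib B i := by
  ext e
  simp only [mem_fib, Finset.mem_union]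

theorem sum_card_fib {M : ℕ} (A : Finset (E × Fin M)) : ∑ i, (fib A i).card = A.card := by
  classical
  rw [Finset.card_eq_sum_card_fiberwise (f := Prod.snd) (t := Finset.univ)
    (fun _ _ => Finset.mem_univ _)]
  refine Finset.sum_congr rfl fun i _ => ?_
  have h1 : A.filter (fun p => p.2 = i) = (fib A i).image fun e => (e, i) := by
    ext ⟨e, j⟩
    simp only [Finset.mem_filter, Finset.mem_image, mem_fib, Prod.mk.injEq]
    constructor
    · rintro ⟨h, rfl⟩
      exact ⟨e, h, rfl, rfl⟩
    · rintro ⟨e', h, rfl, rfl⟩
      exact ⟨h, rfl⟩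
  rw [h1, Finset.card_image_of_injective]
  intro e e' h
  exact (Prod.mk.inj h).1

/-- The Rado–Horn theorem. -/
theorem exists_coloring (x : E → V) (M : ℕ) (h : ∀ T : Finset E, T.card ≤ M * rk K x T) :
    ∃ c : E → Fin M, ∀ i, rk K x (Finset.univ.filter fun e => c e = i) =
      (Finset.univ.filter fun e => c e = i).card := by
  classical
  let r₁ : Finset (E × Fin M) → ℕ := fun A => ∑ i, rk K x (fib A i)
  let r₂ : Finset (E × Fin M) → ℕ := fun A => (A.image Prod.fst).card
  have h₁ : IsRk r₁ := by
    refine ⟨?_, ?_, ?_⟩
    · intro A B hAB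
      exact Finset.sum_le_sum fun i _ => rk_mono x (fib_mono hAB i)
    · intro A
      rw [← sum_card_fib A]
      exact Finset.sum_le_sum fun i _ => rk_le_card x _
    · intro A B
      change ∑ i, rk K x (fib (A ∩ B) i) + ∑ i, rk K x (fib (A ∪ B) i) ≤
        ∑ i, rk K x (fib A i) + ∑ i, rk K x (fib B i)
      rw [← Finset.sum_add_distrib, ← Finset.sum_add_distrib]
      refine Finset.sum_le_sum fun i _ => ?_
      rw [fib_inter, fib_union]
      exact rk_submod x _ _
  have h₂ : IsRk r₂ := by
    refine ⟨?_, ?_, ?_⟩
    · intro A B hAB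
      exact Finset.card_le_card (Finset.image_subset_image hAB)
    · intro A
      exact Finset.card_image_le
    · intro A B
      change ((A ∩ B).image Prod.fst).card + ((A ∪ B).image Prod.fst).card ≤
        (A.image Prod.fst).card + (B.image Prod.fst).card
      have e1 := Finset.card_union_add_card_inter (A.image Prod.fst) (B.image Prod.fst)
      have e2 := Finset.card_le_card (Finset.image_inter_subset Prod.fst A B)
      rw [Finset.image_union]
      omega
  have hk : ∀ A ⊆ (Finset.univ : Finset (E × Fin M)),
      Fintype.card E ≤ r₁ A + r₂ (Finset.univ \ A) := by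
    intro A _
    set T : Finset E := Finset.univ.filter fun e => ∀ i, (e, i) ∈ A with hT
    have hT1 : T.card ≤ r₁ A := by
      refine (h T).trans ?_
      have : M * rk K x T = ∑ _i : Fin M, rk K x T := by
        rw [Finset.sum_const, Finset.card_univ, Fintype.card_fin, smul_eq_mul]
      rw [this]
      refine Finset.sum_le_sum fun i _ => rk_mono x ?_
      intro e he
      rw [hT, Finset.mem_filter] at he
      rw [mem_fib]
      exact he.2 i
    have hT2 : Tᶜ.card ≤ r₂ (Finset.univ \ A) := by
      apply Finset.card_le_card
      intro e he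
      rw [Finset.mem_compl, hT, Finset.mem_filter] at he
      have : ∃ i, (e, i) ∉ A := by
        by_contra hcon
        push Not at hcon
        exact he ⟨Finset.mem_univ e, hcon⟩
      obtain ⟨i, hi⟩ := this
      rw [Finset.mem_image]
      exact ⟨(e, i), by simp [hi], rfl⟩
    have hT3 := Finset.card_compl T
    have hT4 := Finset.card_le_univ T
    omega
  obtain ⟨I, -, hIc, hI1, hI2⟩ := exists_common_indep (Finset.univ : Finset (E × Fin M)).card
    r₁ r₂ h₁ h₂ Finset.univ rfl (Fintype.card E) hk
  -- `I` is the graph of a function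
  have hinj : Set.InjOn Prod.fst (I : Set (E × Fin M)) := by
    rw [← Finset.card_image_iff]
    change r₂ I = I.card
    rw [hI2, hIc]
  have hsurj : I.image Prod.fst = Finset.univ := by
    apply Finset.eq_univ_of_card
    change r₂ I = _
    exact hI2
  have hex : ∀ e : E, ∃ i : Fin M, (e, i) ∈ I := by
    intro e
    have he : e ∈ I.image Prod.fst := by rw [hsurj]; exact Finset.mem_univ e
    rw [Finset.mem_image] at he
    obtain ⟨⟨e', i⟩, hp, rfl⟩ := he
    exact ⟨i, hp⟩
  choose c hc using hex
  have hfib : ∀ i, fib I i = Finset.univ.filter fun e => c e = i := by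
    intro i
    ext e
    rw [mem_fib, Finset.mem_filter]
    constructor
    · intro he
      refine ⟨Finset.mem_univ e, ?_⟩
      have := hinj (Finset.mem_coe.mpr (hc e)) (Finset.mem_coe.mpr he) rfl
      exact (Prod.mk.inj this).2
    · rintro ⟨-, rfl⟩
      exact hc e
  refine ⟨c, fun i => ?_⟩
  rw [← hfib i]
  have hsum : ∑ i, rk K x (fib I i) = ∑ i, (fib I i).card := by
    rw [sum_card_fib, hIc]
    exact hI1
  exact (Finset.sum_eq_sum_iff_of_le (fun i _ => rk_le_card x (fib I i))).mp hsum i
    (Finset.mem_univ i)

end Partition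

end Groth.Agent.H83.Matroid
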