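import Groth.Agent.H83.Matroid.RadoHorn

/-! Covering the indices of a family of vectors by bases with prescribed multiplicities
(the integer decomposition property of the base polytope of a linear matroid) (helper83). -/

set_option autoImplicit false

open Module

namespace Groth.Agent.H83.Matroid

variable {K V ι : Type*} [Field K] [AddCommGroup V] [Module K V] [FiniteDimensional K V]
  [DecidableEq ι] [Fintype ι]

/-- If the weights `w` sum to `M · dim V` and `w(A) ≤ M · rk A` for every set `A` of indices,
there are `M` bases among the vectors `x j` containing each index `j` exactly `w j` times. -/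
theorem exists_bases_with_multiplicities (x : ι → V) (w : ι → ℕ) (M : ℕ)
    (hsum : ∑ j, w j = M * finrank K V)
    (h : ∀ A : Finset ι, ∑ j ∈ A, w j ≤ M * rk K x A) :
    ∃ S : Fin M → Finset ι,
      (∀ t, (S t).card = finrank K V ∧ LinearIndependent K (fun j : S t => x j)) ∧
        ∀ j, (Finset.univ.filter fun t => j ∈ S t).card = w j := by
  classical
  let E := Σ j, Fin (w j)
  let x' : E → V := fun e => x e.1
  have hrk : ∀ T : Finset E, rk K x' T = rk K x (T.image Sigma.fst) := by
    intro T
    rw [rk, rk, Finset.coe_image, Set.image_image]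
  have hcard : ∀ T : Finset E, T.card ≤ M * rk K x' T := by
    intro T
    rw [hrk]
    refine le_trans ?_ (h (T.image Sigma.fst))
    have h1 : T ⊆ (T.image Sigma.fst).sigma fun j => (Finset.univ : Finset (Fin (w j))) := by
      intro e he
      rw [Finset.mem_sigma]
      exact ⟨Finset.mem_image_of_mem _ he, Finset.mem_univ _⟩
    refine (Finset.card_le_card h1).trans ?_
    rw [Finset.card_sigma]
    simp
  obtain ⟨c, hc⟩ := exists_coloring (K := K) x' M hcard
  let C : Fin M → Finset E := fun t => Finset.univ.filter fun e => c e = t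
  let S : Fin M → Finset ι := fun t => (C t).image Sigma.fst
  have hSC : ∀ t, (S t).card = (C t).card ∧ rk K x (S t) = (S t).card := by
    intro t
    have h1 : rk K x (S t) = (C t).card := by rw [← hrk]; exact hc t
    have h2 := rk_le_card (K := K) x (S t)
    have h3 : (S t).card ≤ (C t).card := Finset.card_image_le
    omega
  have hinj : ∀ t, Set.InjOn Sigma.fst (C t : Set E) := fun t =>
    Finset.card_image_iff.mp (hSC t).1
  have htot : ∑ t, (S t).card = ∑ _t : Fin M, finrank K V := by
    have h1 : ∑ t, (S t).card = ∑ t, (C t).card := Finset.sum_congr rfl fun t _ => (hSC t).1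
    have h2 : ∑ t, (C t).card = (Finset.univ : Finset E).card :=
      (Finset.card_eq_sum_card_fiberwise (f := c) (s := Finset.univ) (t := Finset.univ)
        (fun _ _ => Finset.mem_univ _)).symm
    have h3 : (Finset.univ : Finset E).card = ∑ j, w j := by
      rw [Finset.card_univ, Fintype.card_sigma]
      simp
    rw [h1, h2, h3, hsum, Finset.sum_const, Finset.card_univ, Fintype.card_fin, smul_eq_mul]
  have hSr : ∀ t, (S t).card = finrank K V := by
    intro t
    refine (Finset.sum_eq_sum_iff_of_le (fun t _ => ?_)).mp htot t (Finset.mem_univ t)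
    rw [← (hSC t).2]
    exact rk_le_finrank x _
  refine ⟨S, fun t => ⟨hSr t, linearIndependent_of_rk_eq_card x (S t) (hSC t).2⟩, ?_⟩
  intro j
  have h1 : (Finset.univ.filter fun t => j ∈ S t) =
      (Finset.univ : Finset (Fin (w j))).image fun s => c ⟨j, s⟩ := by
    ext t
    simp only [Finset.mem_filter, Finset.mem_univ, true_and, Finset.mem_image, S, C]
    constructor
    · rintro ⟨⟨j', s⟩, he, rfl⟩
      exact ⟨s, he⟩
    · rintro ⟨s, hs⟩
      exact ⟨⟨j, s⟩, hs, rfl⟩
  rw [h1, Finset.card_image_of_injective, Finset.card_univ, Fintype.card_fin]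
  intro s s' hss
  have h2 : (⟨j, s⟩ : E) ∈ (C (c ⟨j, s⟩) : Set E) := by
    rw [Finset.mem_coe, Finset.mem_filter]
    exact ⟨Finset.mem_univ _, rfl⟩
  have h3 : (⟨j, s'⟩ : E) ∈ (C (c ⟨j, s⟩) : Set E) := by
    rw [Finset.mem_coe, Finset.mem_filter]
    exact ⟨Finset.mem_univ _, hss.symm⟩
  have h4 := hinj _ h2 h3 rfl
  exact eq_of_heq (Sigma.mk.inj h4).2

end Groth.Agent.H83.Matroid
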